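import Cfsg.Agent.H533.Wf.Kills

/-!
# Rows for S3826 from one component (helper479)

* `QS.map`, `QS.of_range` : `QS` for images;
* `wfRow_of_comp` : if every automorphism of order `p` of `K` is conjugate under an inner automorphism to one which
  normalises and does not centralise the `QS` subgroup `L < K`, then `WfRow p K`.
-/

set_option autoImplicit false
set_option linter.unusedSectionVars false

namespace Cfsg.Agent.H479.Wf

universe u v w

open Subgroup Cfsg Cfsg.Agent.H533.Wf Cfsg.Agent.H533.T5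

section

variable {X : Type u} [Group X] {G : Type v} [Group G]

theorem normalizer_comap_ge {f : X →* G} {L : Subgroup X} {N : Subgroup G}
    (h : L.map f ≤ normalizer (N : Set G)) : L ≤ normalizer ((N.comap f : Subgroup X) : Set X) := by
  intro l hl
  have h1 := mem_normalizer_iff.1 (h ⟨l, hl, rfl⟩)
  rw [mem_normalizer_iff]
  intro x
  rw [mem_comap, mem_comap, map_mul, map_mul, map_inv]
  exact h1 (f x)

/-- images under injective homomorphisms -/
theorem QS.map {L : Subgroup X} (hL : QS L) {f : X →* G} (hf : Function.Injective f) : QS (L.map f) := by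
  refine ⟨?_, ?_, ?_⟩
  · rw [← map_commutator, hL.perfect]
  · intro h
    exact hL.ne ((map_eq_bot_iff_of_injective _ hf).1 h)
  · intro N hN hn
    have h1 : N.comap f ≤ L := by
      intro x hx
      obtain ⟨l, hl, hlx⟩ := hN hx
      rwa [← hf hlx]
    have h2 : (N.comap f).map f = N := map_comap_eq_self (hN.trans (map_le_range f L))
    rcases hL.norm _ h1 (normalizer_comap_ge hn) with h | h
    · left
      rw [← h2, h]
    · right
      rw [← h2]
      rintro _ ⟨x, hx, rfl⟩
      rw [mem_centralizer_iff]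
      rintro _ ⟨l, hl, rfl⟩
      rw [← map_mul, ← map_mul, mem_centralizer_iff.1 (h hx) l hl]

/-- images of perfect groups all of whose proper normal subgroups are central -/
theorem QS.of_range (hX : ⁅(⊤ : Subgroup X), (⊤ : Subgroup X)⁆ = ⊤) (hn : ∀ N : Subgroup X, N.Normal → N = ⊤ ∨ N ≤ center X) (f : X →* G)
    (hf : ∃ x, f x ≠ 1) : QS f.range := by
  refine ⟨?_, ?_, ?_⟩
  · rw [MonoidHom.range_eq_map, ← map_commutator, hX]
  · intro h
    obtain ⟨x, hx⟩ := hf
    apply hx
    have : f x ∈ f.range := ⟨x, rfl⟩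
    rwa [h, mem_bot] at this
  · intro N hN hnor
    have h2 : (N.comap f).map f = N := map_comap_eq_self hN
    rw [MonoidHom.range_eq_map] at hnor ⊢
    have h1 : (N.comap f).Normal := by
      rw [← normalizer_eq_top_iff, eq_top_iff]
      exact normalizer_comap_ge hnor
    rcases hn _ h1 with h | h
    · left
      rw [← h2, h]
    · right
      rw [← h2]
      rintro _ ⟨x, hx, rfl⟩
      rw [mem_centralizer_iff]
      rintro _ ⟨l, -, rfl⟩
      rw [← map_mul, ← map_mul, mem_center_iff.1 (h hx) l]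

end

/-- **One component.** -/
theorem wfRow_of_comp {p : ℕ} [Fact p.Prime] {K : Type v} [Group K] {L : Subgroup K} (hL : QS L) (hne : L ≠ ⊤)
    (h : ∀ a : MulAut K, orderOf a = p → ∃ s : K,
      L.map (MulAut.conj s * a * (MulAut.conj s)⁻¹ : MulAut K).toMonoidHom = L ∧
        ∃ x ∈ L, (MulAut.conj s * a * (MulAut.conj s)⁻¹ : MulAut K) x ≠ x) : WfRow.{u, v} p K := by
  rintro G _ _ S C D hcfg ⟨e⟩
  have hSn := hcfg.normal
  obtain ⟨c, hc⟩ := hcfg.neC
  obtain ⟨d, hd⟩ := hcfg.neD
  let φ : G →* MulAut S := MulAut.conjNormal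
  have hφ : Function.Injective φ := by
    rw [injective_iff_map_eq_one]
    intro g hg
    have h1 : g ∈ Subgroup.centralizer (S : Set G) := by
      rw [Subgroup.mem_centralizer_iff]
      intro s hs
      have h2 : (φ g) ⟨s, hs⟩ = ⟨s, hs⟩ := by rw [hg]; rfl
      have h3 : g * s * g⁻¹ = s := by
        have := congrArg Subtype.val h2
        rwa [MulAut.conjNormal_apply] at this
      calc s * g = (g * s * g⁻¹) * g := by rw [h3]
        _ = g * s := by group
    rwa [hcfg.cent, Subgroup.mem_bot] at h1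
  let ψ : G →* MulAut K := (MulAut.congr e).toMonoidHom.comp φ
  have hψ : Function.Injective ψ := (MulAut.congr e).injective.comp hφ
  have hψa : ∀ (g : G) (k : K), ψ g k = e ⟨g * (e.symm k : G) * g⁻¹, hSn.conj_mem _ (e.symm k).2 g⟩ := by
    intro g k
    show e (φ g (e.symm k)) = _
    congr 1
  have hψs : ∀ s : K, ψ (e.symm s : G) = MulAut.conj s := by
    intro s
    ext k
    rw [hψa, MulAut.conj_apply]
    have h1 : (⟨(e.symm s : G) * (e.symm k : G) * (e.symm s : G)⁻¹, hSn.conj_mem _ (e.symm k).2 _⟩ : S) =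
        e.symm s * e.symm k * (e.symm s)⁻¹ := rfl
    rw [h1, map_mul, map_mul, map_inv, e.apply_symm_apply, e.apply_symm_apply]
  let f : K →* G := S.subtype.comp e.symm.toMonoidHom
  have hf : Function.Injective f := S.subtype_injective.comp e.symm.injective
  have hfψ : ∀ (g : G) (k : K), f (ψ g k) = g * f k * g⁻¹ := by
    intro g k
    rw [hψa]
    show ((e.symm (e _) : S) : G) = _
    rw [e.symm_apply_apply]
    rfl
  have hLG : QS (L.map f) := QS.map hL hf
  have key : ∀ x : G, orderOf x = p → ∃ t : G, t * x * t⁻¹ ∈ normalizer ((L.map f : Subgroup G) : Set G) ∧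
      t * x * t⁻¹ ∉ centralizer ((L.map f : Subgroup G) : Set G) := by
    intro x hx
    obtain ⟨s, hs, y, hy, hxy⟩ := h (ψ x) (by rw [orderOf_injective ψ hψ, hx])
    refine ⟨f s, ?_, ?_⟩
    · have h1 : ψ (f s * x * (f s)⁻¹) = MulAut.conj s * ψ x * (MulAut.conj s)⁻¹ := by
        rw [map_mul, map_mul, map_inv, show ψ (f s) = MulAut.conj s from hψs s]
      rw [← h1] at hs
      rw [mem_normalizer_iff_map_conj_eq, map_map]
      conv_rhs => rw [← hs, map_map]
      congr 1
      ext k
      exact (hfψ _ k).symm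
    · have h1 : ψ (f s * x * (f s)⁻¹) = MulAut.conj s * ψ x * (MulAut.conj s)⁻¹ := by
        rw [map_mul, map_mul, map_inv, show ψ (f s) = MulAut.conj s from hψs s]
      intro hcen
      apply hxy
      rw [← h1]
      apply hf
      rw [hfψ]
      have h2 := mem_centralizer_iff.1 hcen (f y) ⟨y, hy, rfl⟩
      rw [← h2, mul_inv_cancel_right]
  obtain ⟨t, ht1, ht2⟩ := key c (hcfg.ordC c hc)
  obtain ⟨r, hr1, hr2⟩ := key d (hcfg.ordD d hd)
  refine hcfg.false_of_component ?_ hLG (hcfg.conjC t c hc) (hcfg.conjD r d hd) ht1 hr1 ht2 hr2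
  intro htop
  have hnor : (L.map f).Normal := by
    rw [← normalizer_eq_top_iff]
    exact htop
  have hle : L.map f ≤ S := by
    rintro _ ⟨x, -, rfl⟩
    exact (e.symm x).2
  have hsimple := hcfg.simple
  have h3 : ((L.map f).subgroupOf S).Normal := inferInstance
  rcases h3.eq_bot_or_eq_top with h4 | h4
  · rw [subgroupOf_eq_bot] at h4
    apply hLG.ne
    rw [eq_bot_iff]
    intro x hx
    exact (disjoint_iff_inf_le.mp h4) ⟨hx, hle hx⟩
  · apply hne
    rw [eq_top_iff]
    intro k _
    have h5 : f k ∈ L.map f := (subgroupOf_eq_top.1 h4) (e.symm k).2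
    obtain ⟨l, hl, hlk⟩ := h5
    rwa [← hf hlk]

end Cfsg.Agent.H479.Wf
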