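import Cfsg.Agent.H862.T5.SpRow
import Cfsg.Agent.H157.S5.PspIn
import Cfsg.Agent.H479.Wf.Comp

/-!
# S3826, `p = 3`: the row of `PSp_2m(q)` in cross characteristic (helper479)
-/

set_option autoImplicit false
set_option linter.unusedSectionVars false

namespace Cfsg.Agent.H479.Wf.PspCross

open Cfsg Cfsg.Agent.ClassicalGeometry.SympBasic Cfsg.Agent.ClassicalGeometry.SympAutSemi
open Cfsg.Agent.ClassicalGeometry.SympGamma Cfsg.Agent.H951 Cfsg.Agent.H862.T5.SmallDim
open Cfsg.Agent.H862.T5.SpCore Cfsg.Agent.H862.T5.SpRow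
open Cfsg.Agent.H423.PGBlk Cfsg.Agent.H157.S5 Cfsg.Agent.H157.S5.Blk
open Module Matrix

universe u v

variable {F : Type} [Field F] [Fintype F] {m : ℕ}

/-! ### invariant subspaces for elements of order three -/

/-- elements of order three: invariant non-degenerate subspaces of dimension `2 k` on which they act non-trivially -/
theorem exists_W3 (h3 : (3 : F) ≠ 0) {k : ℕ} (hk : 1 ≤ k) (hkm : k ≤ m) {A : symplecticGroup (Fin m) F}
    (hA : orderOf A = 3) :
    ∃ W : Submodule F (VV m F), Nd (sympForm m F) W ∧ finrank F W = 2 * k ∧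
      (∀ w ∈ W, rho m F A w ∈ W) ∧ ∃ w ∈ W, rho m F A w ≠ w := by
  have hp : Fact (Nat.Prime 3) := ⟨Nat.prime_three⟩
  have hpF : ((3 : ℕ) : F) ≠ 0 := by exact_mod_cast h3
  set x : Module.End F (VV m F) := Matrix.toLin' (A : Matrix (Fin m ⊕ Fin m) (Fin m ⊕ Fin m) F) with hxd
  have hxA : ∀ v, x v = rho m F A v := fun v => Matrix.toLin'_apply _ _
  have hx : Isom (sympForm m F) x := isom_Sp A
  have hxr : x ^ 3 = 1 := by
    rw [hxd, pow_toLin'', ← SubmonoidClass.coe_pow, ← hA, pow_orderOf_eq_one, OneMemClass.coe_one, Matrix.toLin'_one]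
    rfl
  have hB := frm_symp (F := F) m
  have hK := kind_symp (F := F) m
  have hV := nd_symp (F := F) m
  obtain ⟨r, hr⟩ := CharP.exists F
  obtain ⟨n, hrp, hn⟩ := FiniteField.card F r
  have : Fact r.Prime := ⟨hrp⟩
  obtain ⟨i, hi⟩ : ∃ i, i = orderOf ((Fintype.card F : ℕ) : ZMod 3) := ⟨_, rfl⟩
  obtain ⟨c, hc⟩ : ∃ c, c = (if Even i then i else 2 * i) := ⟨_, rfl⟩
  have hi0 : 0 < i := by
    rw [hi]
    exact ord_pos hpF
  have hi2 : i ∣ 2 := by
    rw [hi]
    have h0 : ((Fintype.card F : ℕ) : ZMod 3) ≠ 0 := fun h =>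
      Cfsg.Agent.H862.T5.SpRow.not_dvd_card Nat.prime_three hpF ((ZMod.natCast_eq_zero_iff _ 3).1 h)
    exact orderOf_dvd_of_pow_eq_one (ZMod.pow_card_sub_one_eq_one h0)
  have hc2 : c = 2 := by
    have h1 := (Nat.dvd_prime Nat.prime_two).1 hi2
    rcases h1 with h1 | h1 <;> rw [hc, h1] <;> rfl
  have hbn : BlockNum (RingHom.id F) r 3 (orderOf (Fintype.card F : ZMod 3)) c :=
    blockNum_symp (r := 3) (by omega) (p := r) rfl hi hi0 hc
  have hdiv : ∀ W' : Submodule F (VV m F), Inv x W' → Nd (sympForm m F) W' → W' ≤ cm x → c ∣ finrank F W' :=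
    fun W' h1 h2 h3 => dvd_finrank_symp hpF rfl hB hK hi hc hxr W' h1 h2 h3
  have hcm : Nd (sympForm m F) (cm x) := hx.nd_cm hB hpF hxr hV
  obtain ⟨M, hM⟩ := hdiv (cm x) inv_cm hcm le_rfl
  have hxne : x ≠ 1 := by
    intro h
    have h1 : A = 1 := by
      apply rho_injective
      rw [map_one]
      ext1 v
      rw [← hxA, h]
      rfl
    rw [h1, orderOf_one] at hA
    omega
  have hM0 : M ≠ 0 := by
    rintro rfl
    rw [mul_zero, Submodule.finrank_eq_zero] at hM
    apply hxne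
    refine LinearMap.ext fun v => ?_
    have h1 : x v - v ∈ cm x := mem_cm.2 ⟨v, rfl⟩
    rw [hM, Submodule.mem_bot, sub_eq_zero] at h1
    exact h1
  have hfr : finrank F (VV m F) = 2 * m := by
    rw [Module.finrank_fintype_fun_eq_card, Fintype.card_sum, Fintype.card_fin]
    ring
  have hsum := finrank_fx_cm hpF hxr
  rw [hfr] at hsum
  have hne : ∀ W : Submodule F (VV m F), W ≤ cm x → 0 < finrank F W → ∃ w ∈ W, rho m F A w ≠ w := by
    intro W hW hpos
    have h0 : W ≠ ⊥ := by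
      rintro rfl
      rw [finrank_bot] at hpos
      omega
    obtain ⟨w, hw, hw0⟩ := (Submodule.ne_bot_iff _).1 h0
    refine ⟨w, hw, fun h => hw0 ?_⟩
    have h6 := (isCompl_fx_cm hpF hxr).inf_eq_bot
    rw [← Submodule.mem_bot F, ← h6]
    exact ⟨mem_fx.2 (by rw [hxA]; exact h), hW hw⟩
  obtain ⟨W₁, hW₁c, hW₁i, hW₁n, hW₁d⟩ := exists_nd_finrank hpF (by omega) (p := r) hB hx hxr hdiv hbn inv_cm hcm le_rfl
    (j := min M k) (by rw [hM]; exact Nat.mul_le_mul_left _ (min_le_left _ _))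
  rw [hc2] at hM hW₁d
  have hmin : 0 < min M k := lt_min (Nat.pos_of_ne_zero hM0) (by omega)
  have hne1 : ∃ w ∈ W₁, rho m F A w ≠ w := hne W₁ hW₁c (by rw [hW₁d]; omega)
  by_cases hMk : k ≤ M
  · refine ⟨W₁, hW₁n, ?_, fun w hw => by rw [← hxA]; exact hW₁i w hw, hne1⟩
    rw [hW₁d, min_eq_right hMk]
  · have hfx : 2 * (k - M) ≤ finrank F ↥(fx x) := by omega
    obtain ⟨W₂, hW₂, hn₂, hd₂⟩ := exists_nd_sub hB hK (hx.nd_fx hB hpF hxr hV) (k := 2 * (k - M)) hfx
      (fun _ => even_two_mul _)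
    obtain ⟨g1, g2, g3⟩ := glue_nd hB hx hW₁c hW₂ hW₁i hW₁n hn₂
    refine ⟨W₁ ⊔ W₂, g2, ?_, fun w hw => by rw [← hxA]; exact g1 w hw, ?_⟩
    · rw [g3, hW₁d, hd₂]
      omega
    · obtain ⟨w, hw, hne2⟩ := hne1
      exact ⟨w, Submodule.mem_sup_left hw, hne2⟩

/-! ### moving to the standard subspace -/

variable {k l : ℕ}

/-- elements of order three are conjugate to block matrices -/
theorem exists_conj3 (h3 : (3 : F) ≠ 0) (hk : 1 ≤ k) {A : symplecticGroup (Fin (k + l)) F} (hA : orderOf A = 3) :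
    ∃ C : symplecticGroup (Fin (k + l)) F,
      (∀ w ∈ W0 (k + l) k F, rho (k + l) F (C * A * C⁻¹) w ∈ W0 (k + l) k F) ∧
      ∃ w ∈ W0 (k + l) k F, rho (k + l) F (C * A * C⁻¹) w ≠ w := by
  obtain ⟨W', hW'n, hW'd, hAW, hA1⟩ := exists_W3 h3 hk (by omega) hA
  obtain ⟨T, hT, hTW⟩ := exists_move (frm_symp (k + l)) (kind_symp (k + l)) (nd_symp (k + l)) (nd_W0 (k := k)) hW'n
    (by rw [hW'd, finrank_W0 (by omega)])
  obtain ⟨C, hC⟩ := exists_Sp_of_equiv T hT
  have hCT : ∀ v, rho (k + l) F C v = T v := by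
    intro v
    have h1 := LinearMap.congr_fun hC v
    rw [Matrix.toLin'_apply] at h1
    exact h1
  have hmap : ∀ w ∈ W', rho (k + l) F C w ∈ W0 (k + l) k F := by
    intro w hw
    rw [hCT, ← hTW]
    exact ⟨w, hw, rfl⟩
  have hmap' : ∀ w ∈ W0 (k + l) k F, (rho (k + l) F C)⁻¹ w ∈ W' := by
    intro w hw
    rw [← hTW] at hw
    obtain ⟨u, hu, rfl⟩ := hw
    have h1 : rho (k + l) F C u = T u := hCT u
    have h2 : (rho (k + l) F C)⁻¹ (T u) = u := by
      rw [← h1]
      exact (rho (k + l) F C).symm_apply_apply u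
    change (rho (k + l) F C)⁻¹ (T u) ∈ W'
    rw [h2]
    exact hu
  refine ⟨C, fun v hv => ?_, ?_⟩
  · rw [map_mul, map_mul, map_inv]
    exact hmap _ (hAW _ (hmap' v hv))
  · obtain ⟨w, hw, hwA⟩ := hA1
    refine ⟨rho (k + l) F C w, hmap w hw, fun h => hwA ?_⟩
    apply (rho (k + l) F C).injective
    rw [← h, map_mul, map_mul, map_inv]
    simp

/-! ### the block subgroup -/

/-- the block subgroup -/
def bl (k l : ℕ) (F : Type) [Field F] [Fintype F] : symplecticGroup (Fin k) F →* PSp (k + l) F :=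
  (QuotientGroup.mk' _).comp ((blkSp k l).comp (MonoidHom.inl _ _))

theorem bl_apply (x : symplecticGroup (Fin k) F) : bl k l F x = QuotientGroup.mk (blkSp k l (x, 1)) := rfl

theorem blkSp_mulVec (x : symplecticGroup (Fin k) F × symplecticGroup (Fin l) F) (a : Fin k ⊕ Fin k → F)
    (b : Fin l ⊕ Fin l → F) :
    rho (k + l) F (blkSp k l x) (e0 k l F (a, b)) = e0 k l F (rho k F x.1 a, rho l F x.2 b) := by
  rw [← blockHom_e0]
  change ((Cfsg.Agent.S0776.blockHom (e0 k l F) he0 x : symplecticGroup (Fin (k + l)) F) :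
    Matrix (Fin (k + l) ⊕ Fin (k + l)) (Fin (k + l) ⊕ Fin (k + l)) F) *ᵥ e0 k l F (a, b) = _
  rw [Cfsg.Agent.S0776.blockHom_mulVec]
  rfl

theorem bl_injective (hl : 1 ≤ l) : Function.Injective (bl k l F) := by
  rw [injective_iff_map_eq_one]
  intro x hx
  rw [bl_apply, QuotientGroup.eq_one_iff, LieClassical.SympCenter.mem_center_iff] at hx
  obtain ⟨a, ha⟩ := hx
  have key : ∀ v w, e0 k l F (rho k F x v, w) = a • e0 k l F (v, w) := by
    intro v w
    have h1 := blkSp_mulVec (k := k) (l := l) (F := F) (x, 1) v w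
    rw [map_one] at h1
    have h2 : e0 k l F (rho k F x v, w) = rho (k + l) F (blkSp k l (x, 1)) (e0 k l F (v, w)) := by
      rw [h1]
      rfl
    rw [h2, rho_apply, ha, Matrix.smul_mulVec, Matrix.one_mulVec]
  have h1 : a = 1 := by
    have h2 := key 0 (Pi.single (Sum.inl ⟨0, hl⟩) 1)
    rw [← map_smul] at h2
    have h3 := congrFun (congrArg Prod.snd ((e0 k l F).injective h2)) (Sum.inl ⟨0, hl⟩)
    simp at h3
    exact h3.symm
  apply rho_injective
  rw [map_one]
  ext1 v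
  have h2 := key v 0
  rw [h1, one_smul] at h2
  exact congrArg Prod.fst ((e0 k l F).injective h2)

theorem e0_mem (a : Fin k ⊕ Fin k → F) : e0 k l F (a, 0) ∈ W0 (k + l) k F := by
  rw [mem_W0_iff, LinearEquiv.symm_apply_apply]

theorem exists_of_mem {v : VV (k + l) F} (hv : v ∈ W0 (k + l) k F) : ∃ a, v = e0 k l F (a, 0) := by
  rw [mem_W0_iff] at hv
  refine ⟨((e0 k l F).symm v).1, ?_⟩
  rw [← hv]
  exact ((e0 k l F).apply_symm_apply v).symm

/-- semisimilitudes preserving the standard subspace also preserve its orthogonal complement -/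
theorem exists_perp {g : semiSim (k + l) F} (hg : ∀ w ∈ W0 (k + l) k F, g.1 w ∈ W0 (k + l) k F)
    (b : Fin l ⊕ Fin l → F) : ∃ b', g.1⁻¹ (e0 k l F (0, b)) = e0 k l F (0, b') := by
  obtain ⟨φ, lam, hlam, hs⟩ := g.2
  obtain ⟨⟨a, b'⟩, hab⟩ := (e0 k l F).surjective (g.1⁻¹ (e0 k l F (0, b)))
  refine ⟨b', ?_⟩
  have h1 : ∀ c : Fin k ⊕ Fin k → F, sympForm k F a c = 0 := by
    intro c
    have h2 := hs.2.2 (g.1⁻¹ (e0 k l F (0, b))) (e0 k l F (c, 0))
    have h3 : g.1 (g.1⁻¹ (e0 k l F (0, b))) = e0 k l F (0, b) := g.1.apply_symm_apply _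
    rw [h3, ← hab, he0] at h2
    obtain ⟨d, hd⟩ := exists_of_mem (hg _ (e0_mem (l := l) c))
    rw [hd, he0] at h2
    simp only [sympForm_zero_left, sympForm_zero_right, add_zero] at h2
    have h4 := (mul_eq_zero.1 h2.symm).resolve_left hlam
    exact (map_eq_zero_iff φ φ.injective).1 h4
  have h2 : a = 0 := by
    by_contra h
    obtain ⟨c, -, hc⟩ := nd_symp (F := F) k a (Submodule.mem_top) h
    exact hc (h1 c)
  rw [← hab, h2]

/-- **The action of the semisimilitudes on the block subgroup.** -/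
theorem Psi_bl {g : semiSim (k + l) F} (hg : ∀ w ∈ W0 (k + l) k F, g.1 w ∈ W0 (k + l) k F)
    (x : symplecticGroup (Fin k) F) : ∃ x' : symplecticGroup (Fin k) F, Psi (k + l) F g (bl k l F x) = bl k l F x' ∧
      rho (k + l) F (blkSp k l (x', 1)) = g.1 * rho (k + l) F (blkSp k l (x, 1)) * g.1⁻¹ := by
  set C := Cfsg.Agent.ClassicalGeometry.SympAutSemi.conjHom (k + l) F g (blkSp k l (x, 1)) with hC
  have hrC : rho (k + l) F C = g.1 * rho (k + l) F (blkSp k l (x, 1)) * g.1⁻¹ := rho_conjHom _ _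
  have hg' := inv_mem_of (W := W0 (k + l) k F) hg
  obtain ⟨⟨z, w⟩, hz⟩ := exists_blk_of_mem (A := C) (fun v hv => by
    rw [hrC]
    obtain ⟨a, ha⟩ := exists_of_mem (hg' v hv)
    have h1 : (g.1 * rho (k + l) F (blkSp k l (x, 1)) * g.1⁻¹) v = g.1 (rho (k + l) F (blkSp k l (x, 1)) (g.1⁻¹ v)) := rfl
    rw [h1, ha, blkSp_mulVec_fst]
    exact hg _ (e0_mem _))
  have hw : w = 1 := by
    apply rho_injective
    rw [map_one]
    ext1 b
    obtain ⟨b', hb'⟩ := exists_perp hg b
    have h1 := blkSp_mulVec (z, w) 0 b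
    rw [← hz, hrC] at h1
    have h2 : (g.1 * rho (k + l) F (blkSp k l (x, 1)) * g.1⁻¹) (e0 k l F (0, b)) =
        g.1 (rho (k + l) F (blkSp k l (x, 1)) (g.1⁻¹ (e0 k l F (0, b)))) := rfl
    have h3 := blkSp_mulVec (k := k) (l := l) (F := F) (x, 1) 0 b'
    rw [h2, hb', h3] at h1
    have h4 : rho k F x (0 : Fin k ⊕ Fin k → F) = 0 := by rw [rho_apply, Matrix.mulVec_zero]
    have h5 : rho l F (1 : symplecticGroup (Fin l) F) b' = b' := by rw [map_one]; rfl
    dsimp only at h1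
    rw [h4, h5, ← hb'] at h1
    have h6 : g.1 (g.1⁻¹ (e0 k l F (0, b))) = e0 k l F (0, b) := g.1.apply_symm_apply _
    rw [h6] at h1
    exact (congrArg Prod.snd ((e0 k l F).injective h1)).symm
  subst hw
  refine ⟨z, ?_, by rw [← hz, hrC]⟩
  rw [bl_apply, Psi_mk, ← hC, hz]
  rfl

/-- images of the block subgroup -/
theorem map_range {g : semiSim (k + l) F} (hg : ∀ w ∈ W0 (k + l) k F, g.1 w ∈ W0 (k + l) k F) :
    (bl k l F).range.map (Psi (k + l) F g).toMonoidHom = (bl k l F).range := by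
  apply Subgroup.eq_of_le_of_card_ge
  · rintro _ ⟨_, ⟨x, rfl⟩, rfl⟩
    obtain ⟨x', hx', -⟩ := Psi_bl hg x
    exact ⟨x', hx'.symm⟩
  · exact (Nat.card_congr ((bl k l F).range.equivMapOfInjective (Psi (k + l) F g).toMonoidHom
      (Psi (k + l) F g).injective).toEquiv).le

/-- if `Psi g` centralises the block subgroup, `g` is scalar on the standard subspace -/
theorem exists_moved (hl : 1 ≤ l) {g : semiSim (k + l) F} (hg : ∀ w ∈ W0 (k + l) k F, g.1 w ∈ W0 (k + l) k F)
    (hu : ∃ u ∈ W0 (k + l) k F, ∀ a : F, g.1 u ≠ a • u) : ∃ x ∈ (bl k l F).range, Psi (k + l) F g x ≠ x := by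
  by_contra hcon
  push Not at hcon
  obtain ⟨φ, lam, hlam, hs⟩ := g.2
  obtain ⟨u, hu, hgu⟩ := hu
  have hu0 : u ≠ 0 := by
    rintro rfl
    have h1 := hs.1 0 0
    rw [add_zero] at h1
    exact hgu 0 (by rw [zero_smul]; exact left_eq_add.1 h1)
  obtain ⟨a, rfl⟩ := exists_of_mem hu
  have ha0 : a ≠ 0 := by
    rintro rfl
    exact hu0 (map_zero (e0 k l F))
  obtain ⟨c, -, hc⟩ := nd_symp (F := F) k a Submodule.mem_top ha0
  have hc' : sympForm k F c a ≠ 0 := by
    rw [sympForm_swap]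
    exact neg_ne_zero.2 hc
  set x : symplecticGroup (Fin k) F := transv a 1 with hx
  obtain ⟨x', hx1, hx2⟩ := Psi_bl hg x
  have h1 : x' = x := bl_injective hl (by rw [← hx1]; exact hcon _ ⟨x, rfl⟩)
  rw [h1] at hx2
  have hcomm : ∀ v, rho (k + l) F (blkSp k l (x, 1)) (g.1 v) = g.1 (rho (k + l) F (blkSp k l (x, 1)) v) := by
    intro v
    rw [hx2]
    have h2 : (g.1 * rho (k + l) F (blkSp k l (x, 1)) * g.1⁻¹) (g.1 v) =
        g.1 (rho (k + l) F (blkSp k l (x, 1)) (g.1⁻¹ (g.1 v))) := rfl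
    have h3 : g.1⁻¹ (g.1 v) = v := g.1.symm_apply_apply v
    rw [h2, h3, ← hx2]
  have h2 := hcomm (e0 k l F (c, 0))
  obtain ⟨d, hd⟩ := exists_of_mem (hg _ (e0_mem (l := l) c))
  have hadd : ∀ (e : Fin k ⊕ Fin k → F), rho (k + l) F (blkSp k l (x, 1)) (e0 k l F (e, 0)) =
      e0 k l F (e, 0) + sympForm k F e a • e0 k l F (a, 0) := by
    intro e
    rw [blkSp_mulVec_fst, ← map_smul, ← map_add]
    congr 1
    dsimp only
    rw [hx, rho_transv, one_mul]
    simp
  rw [hd, hadd, hadd, hs.1, hs.2.1, hd] at h2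
  have h3 := add_left_cancel h2
  have h4 : φ (sympForm k F c a) ≠ 0 := (map_ne_zero_iff φ φ.injective).2 hc'
  apply hgu ((φ (sympForm k F c a))⁻¹ * sympForm k F d a)
  rw [mul_smul, h3, smul_smul, inv_mul_cancel₀ h4, one_smul]

/-- the block subgroup is proper -/
theorem range_ne_top (hk : 1 ≤ k) (hl : 1 ≤ l) (hz : Subgroup.center (PSp (k + l) F) = ⊥) :
    (bl k l F).range ≠ ⊤ := by
  intro htop
  set v : Fin l ⊕ Fin l → F := Pi.single (Sum.inl ⟨0, hl⟩) 1 with hv
  have hv0 : v ≠ 0 := fun h => one_ne_zero (α := F) (by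
    have := congrFun h (Sum.inl ⟨0, hl⟩)
    simp [hv] at this)
  obtain ⟨c, -, hc⟩ := nd_symp (F := F) l v Submodule.mem_top hv0
  set t : symplecticGroup (Fin l) F := transv v 1 with ht
  have h1 : (QuotientGroup.mk (blkSp k l (1, t)) : PSp (k + l) F) ∈ Subgroup.center (PSp (k + l) F) := by
    rw [Subgroup.mem_center_iff]
    intro y
    have hy : y ∈ (bl k l F).range := by rw [htop]; exact Subgroup.mem_top _
    obtain ⟨x, rfl⟩ := hy
    rw [bl_apply]
    change (QuotientGroup.mk (blkSp k l (x, 1) * blkSp k l (1, t)) : PSp (k + l) F) =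
      QuotientGroup.mk (blkSp k l (1, t) * blkSp k l (x, 1))
    rw [← map_mul, ← map_mul]
    simp
  rw [hz, Subgroup.mem_bot, QuotientGroup.eq_one_iff, LieClassical.SympCenter.mem_center_iff] at h1
  obtain ⟨a, ha⟩ := h1
  have key : ∀ u w, e0 k l F (u, rho l F t w) = a • e0 k l F (u, w) := by
    intro u w
    have h1 := blkSp_mulVec (k := k) (l := l) (F := F) (1, t) u w
    have h2 : e0 k l F (u, rho l F t w) = rho (k + l) F (blkSp k l (1, t)) (e0 k l F (u, w)) := by
      rw [h1, map_one]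
      rfl
    rw [h2, rho_apply, ha, Matrix.smul_mulVec, Matrix.one_mulVec]
  have h1 : a = 1 := by
    have h2 := key (Pi.single (Sum.inl ⟨0, hk⟩) 1) 0
    rw [← map_smul] at h2
    have h3 := congrFun (congrArg Prod.fst ((e0 k l F).injective h2)) (Sum.inl ⟨0, hk⟩)
    simp at h3
    exact h3.symm
  have h2 := key 0 c
  rw [h1, one_smul] at h2
  have h3 := congrArg Prod.snd ((e0 k l F).injective h2)
  dsimp only at h3
  rw [ht, rho_transv, add_eq_left, smul_eq_zero, one_mul] at h3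
  rcases h3 with h3 | h3
  · apply hc
    rw [sympForm_swap, h3, neg_zero]
  · exact hv0 h3

/-- the automorphisms of order three of `PSp` -/
theorem cases3 (hm : 2 ≤ m) (h22 : m = 2 → 3 ≤ Fintype.card F) {a : MulAut (PSp m F)} (ha : orderOf a = 3) :
    (∃ A : symplecticGroup (Fin m) F, orderOf A = 3 ∧ a = Psi m F (lin A)) ∨
      ∃ (φ : F ≃+* F), orderOf φ = 3 ∧
        ∃ s : PSp m F, a = MulAut.conj s * Psi m F (frobS m φ) * (MulAut.conj s)⁻¹ := by
  have hsimple : IsSimpleGroup (PSp m F) := S0270.result m hm h22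
  have hna : ¬ IsMulCommutative (PSp m F) := Cfsg.Agent.H458.RowPSp.not_comm hm h22
  have hap : a ^ 3 = 1 := by rw [← ha, pow_orderOf_eq_one]
  rcases Cfsg.Agent.H458.SpAut.inner_or_field hm h22 (by decide : Odd 3) hap with ⟨s, rfl⟩ | ⟨g, φ, l, hl, hg, hφ, rfl⟩
  · have h1 : orderOf s = 3 := by
      rw [← ha]
      exact (orderOf_injective _ (Cfsg.Agent.H533.T5.conj_injective_of_simple hna) s).symm
    obtain ⟨A, hA, hA'⟩ := Cfsg.Agent.H458.SpOp.exists_lift (by omega) Nat.prime_three (by omega) s h1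
    refine Or.inl ⟨A, hA', ?_⟩
    rw [Psi_lin]
    congr 1
    exact hA.symm
  · obtain ⟨h1, s, ⟨t, rfl⟩, hs⟩ := exists_inner_conj hm h22 Nat.prime_three (by omega) hl hg hap hφ
    exact Or.inr ⟨φ, h1, t, hs⟩

/-- perfect groups with simple central quotient -/
theorem eq_top_or_le_center {X : Type*} [Group X] (hX : ⁅(⊤ : Subgroup X), (⊤ : Subgroup X)⁆ = ⊤)
    (hs : IsSimpleGroup (X ⧸ Subgroup.center X)) (N : Subgroup X) (hN : N.Normal) :
    N = ⊤ ∨ N ≤ Subgroup.center X := by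
  have h1 : (N.map (QuotientGroup.mk' (Subgroup.center X))).Normal :=
    hN.map _ (QuotientGroup.mk'_surjective _)
  rcases h1.eq_bot_or_eq_top with h | h
  · right
    have h2 := (Subgroup.map_eq_bot_iff _).1 h
    rwa [QuotientGroup.ker_mk'] at h2
  · left
    rw [eq_top_iff, ← hX, Subgroup.commutator_le]
    intro x _ y _
    have hx : (QuotientGroup.mk' (Subgroup.center X)) x ∈ N.map (QuotientGroup.mk' (Subgroup.center X)) := by
      rw [h]
      exact Subgroup.mem_top _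
    obtain ⟨n, hn, hnx⟩ := hx
    have hz : n⁻¹ * x ∈ Subgroup.center X := QuotientGroup.eq.1 hnx
    have h3 : x = n * (n⁻¹ * x) := by group
    have h4 : x * y * x⁻¹ * y⁻¹ = n * (y * n⁻¹ * y⁻¹) := by
      have h5 := (Subgroup.mem_center_iff.1 hz y)
      generalize n⁻¹ * x = z at h3 h5
      rw [h3]
      calc n * z * y * (n * z)⁻¹ * y⁻¹ = n * (z * y) * z⁻¹ * n⁻¹ * y⁻¹ := by group
        _ = n * (y * n⁻¹ * y⁻¹) := by rw [← h5]; group
    change x * y * x⁻¹ * y⁻¹ ∈ N
    rw [h4]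
    exact N.mul_mem hn (hN.conj_mem _ (N.inv_mem hn) y)

/-- the row for `q ≥ 4` -/
theorem row_four (h3 : (3 : F) ≠ 0) (h4 : 4 ≤ Fintype.card F) (hl : 1 ≤ l) :
    Cfsg.Agent.H533.Wf.WfRow.{u, 0} 3 (PSp (1 + l) F) := by
  have hp : Fact (Nat.Prime 3) := ⟨Nat.prime_three⟩
  have hm : 2 ≤ 1 + l := by omega
  have h22 : 1 + l = 2 → 3 ≤ Fintype.card F := fun _ => by omega
  have hsimple : IsSimpleGroup (PSp (1 + l) F) := S0270.result _ hm h22
  have hna : ¬ IsMulCommutative (PSp (1 + l) F) := Cfsg.Agent.H458.RowPSp.not_comm hm h22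
  have hcz := Cfsg.Agent.H533.T5.center_eq_bot_of_simple hna
  have hs1 := (simple_psp (F := F) (k := 1) le_rfl (fun _ => h4) (by omega)).1
  have hperf : ⁅(⊤ : Subgroup (symplecticGroup (Fin 1) F)), (⊤ : Subgroup (symplecticGroup (Fin 1) F))⁆ = ⊤ :=
    S0269.result (F := F) 1 (Or.inr (Or.inr h4))
  have hne : (bl 1 l F).range ≠ ⊤ := range_ne_top le_rfl hl hcz
  refine wfRow_of_comp (L := (bl 1 l F).range) (QS.of_range hperf (fun N hN => eq_top_or_le_center hperf hs1 N hN) _ ?_)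
    hne ?_
  · by_contra hcon
    push Not at hcon
    have h1 : ∀ x : symplecticGroup (Fin 1) F, x = 1 := fun x => bl_injective hl (by rw [hcon, map_one])
    have h2 : Subsingleton (PSp 1 F) := by
      constructor
      intro a b
      obtain ⟨a, rfl⟩ := QuotientGroup.mk'_surjective _ a
      obtain ⟨b, rfl⟩ := QuotientGroup.mk'_surjective _ b
      rw [h1 a, h1 b]
    exact (not_subsingleton_iff_nontrivial.2 hs1.toNontrivial) h2
  · intro a ha
    rcases cases3 hm h22 ha with ⟨A, hA, rfl⟩ | ⟨φ, hφ, s, rfl⟩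
    · obtain ⟨C, hC1, w, hw, hC2⟩ := exists_conj3 h3 le_rfl hA
      have e1 : (MulAut.conj (QuotientGroup.mk C : PSp (1 + l) F) * Psi (1 + l) F (lin A) *
          (MulAut.conj (QuotientGroup.mk C : PSp (1 + l) F))⁻¹ : MulAut (PSp (1 + l) F)) = Psi (1 + l) F (lin (C * A * C⁻¹)) := by
        rw [← Psi_lin, ← map_inv, ← map_mul, ← map_mul]
        congr 1
        apply Subtype.ext
        change rho (1 + l) F C * rho (1 + l) F A * (rho (1 + l) F C)⁻¹ = rho (1 + l) F (C * A * C⁻¹)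
        rw [map_mul, map_mul, map_inv]
      refine ⟨QuotientGroup.mk C, ?_, ?_⟩
      · rw [e1]
        exact map_range hC1
      · rw [e1]
        refine exists_moved hl hC1 ?_
        refine isSemi_fix_ne Nat.prime_three (by omega) nd_W0 (isSemi_rho _) ?_ ⟨w, hw, hC2⟩
        change (rho (1 + l) F (C * A * C⁻¹)) ^ 3 = 1
        rw [← map_pow, conj_pow, ← hA, pow_orderOf_eq_one, mul_one, mul_inv_cancel, map_one]
    · have e1 : (MulAut.conj s⁻¹ * (MulAut.conj s * Psi (1 + l) F (frobS (1 + l) φ) * (MulAut.conj s)⁻¹) *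
          (MulAut.conj s⁻¹)⁻¹ : MulAut (PSp (1 + l) F)) = Psi (1 + l) F (frobS (1 + l) φ) := by
        rw [map_inv]
        group
      refine ⟨s⁻¹, ?_, ?_⟩
      · rw [e1]
        exact map_range (frob_W0 φ)
      · rw [e1]
        refine exists_moved hl (frob_W0 φ) (frob_ne le_rfl (by omega) ?_)
        rintro rfl
        have h5 : orderOf (RingEquiv.refl F) = 1 := orderOf_one
        rw [h5] at hφ
        omega

/-- the row for `q = 2` -/
theorem row_two (h2 : Fintype.card F = 2) (hl : 1 ≤ l) :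
    Cfsg.Agent.H533.Wf.WfRow.{u, 0} 3 (PSp (2 + l) F) := by
  have hp : Fact (Nat.Prime 3) := ⟨Nat.prime_three⟩
  have h01 : ∀ x : F, x = 0 ∨ x = 1 := by
    intro x
    have h1 := FiniteField.pow_card x
    rw [h2, pow_two] at h1
    have h5 : x * (x - 1) = 0 := by linear_combination h1
    rcases mul_eq_zero.1 h5 with h | h
    · exact Or.inl h
    · exact Or.inr (sub_eq_zero.1 h)
  have h3 : (3 : F) ≠ 0 := by
    have h5 : (2 : F) = 0 := by
      rcases h01 2 with h | h
      · exact h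
      · exfalso
        have h6 : (1 : F) = 0 := by linear_combination h
        exact one_ne_zero h6
    intro h
    have h6 : (1 : F) = 0 := by linear_combination h - h5
    exact one_ne_zero h6
  have hm : 2 ≤ 2 + l := by omega
  have h22 : 2 + l = 2 → 3 ≤ Fintype.card F := fun _ => by omega
  have hsimple : IsSimpleGroup (PSp (2 + l) F) := S0270.result _ hm h22
  have hna : ¬ IsMulCommutative (PSp (2 + l) F) := Cfsg.Agent.H458.RowPSp.not_comm hm h22
  have hcz := Cfsg.Agent.H533.T5.center_eq_bot_of_simple hna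
  obtain ⟨e⟩ := LieClassical.SpFourTwo.nonempty_equiv_perm h2
  have hA : IsSimpleGroup (alternatingGroup (Fin 6)) :=
    alternatingGroup.isSimpleGroup (by rw [Nat.card_eq_fintype_card, Fintype.card_fin]; omega)
  have hAna : ¬ IsMulCommutative (alternatingGroup (Fin 6)) := by
    intro h
    rw [alternatingGroup.isMulCommutative_iff_card_le_three, Nat.card_eq_fintype_card, Fintype.card_fin] at h
    omega
  let f : alternatingGroup (Fin 6) →* PSp (2 + l) F :=
    (bl 2 l F).comp (e.symm.toMonoidHom.comp (alternatingGroup (Fin 6)).subtype)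
  have hf : Function.Injective f := (bl_injective hl).comp (e.symm.injective.comp Subtype.val_injective)
  let ef := MonoidHom.ofInjective hf
  have hs : IsSimpleGroup f.range := ef.symm.isSimpleGroup
  have hfna : ¬ IsMulCommutative f.range := fun h => hAna ⟨⟨fun a b => ef.injective (by
    rw [map_mul, map_mul]
    exact h.is_comm.comm _ _)⟩⟩
  have hle : f.range ≤ (bl 2 l F).range := by
    rintro _ ⟨x, rfl⟩
    exact ⟨_, rfl⟩
  have hne : f.range ≠ ⊤ := fun h => range_ne_top (F := F) (k := 2) (l := l) (by omega) hl hcz (by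
    rw [eq_top_iff, ← h]
    exact hle)
  refine wfRow_of_comp (L := f.range) (Cfsg.Agent.H533.Wf.QS.of_simple hs hfna) hne ?_
  intro a ha
  rcases cases3 hm h22 ha with ⟨A, hA3, rfl⟩ | ⟨φ, hφ, -⟩
  · obtain ⟨C, hC1, w, hw, hC2⟩ := exists_conj3 (k := 2) h3 (by omega) hA3
    have e1 : (MulAut.conj (QuotientGroup.mk C : PSp (2 + l) F) * Psi (2 + l) F (lin A) *
        (MulAut.conj (QuotientGroup.mk C : PSp (2 + l) F))⁻¹ : MulAut (PSp (2 + l) F)) =
          MulAut.conj (QuotientGroup.mk (C * A * C⁻¹) : PSp (2 + l) F) := by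
      rw [Psi_lin]
      change _ = MulAut.conj (QuotientGroup.mk C * QuotientGroup.mk A * (QuotientGroup.mk C)⁻¹ : PSp (2 + l) F)
      rw [map_mul, map_mul, map_inv]
    obtain ⟨⟨x, y⟩, hxy⟩ := exists_blk_of_mem hC1
    have hx1 : x ≠ 1 := by
      rintro rfl
      apply hC2
      obtain ⟨b, rfl⟩ := exists_of_mem hw
      rw [hxy, blkSp_mulVec_fst, map_one]
      rfl
    have hx3 : x ^ 3 = 1 := by
      have h1 : (C * A * C⁻¹) ^ 3 = 1 := by
        rw [conj_pow, ← hA3, pow_orderOf_eq_one, mul_one, mul_inv_cancel]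
      rw [hxy, ← map_pow] at h1
      have h5 := blkSp_injective (h1.trans (map_one _).symm)
      exact congrArg Prod.fst h5
    have hact : ∀ σ : alternatingGroup (Fin 6), MulAut.conj (QuotientGroup.mk (C * A * C⁻¹) : PSp (2 + l) F) (f σ) =
        f ⟨e x * σ * (e x)⁻¹, (inferInstance : (alternatingGroup (Fin 6)).Normal).conj_mem _ σ.2 _⟩ := by
      intro σ
      rw [MulAut.conj_apply, hxy]
      change (QuotientGroup.mk (blkSp 2 l (x, y) * blkSp 2 l (e.symm σ, 1) * (blkSp 2 l (x, y))⁻¹) : PSp (2 + l) F) =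
        QuotientGroup.mk (blkSp 2 l (e.symm (e x * σ * (e x)⁻¹), 1))
      rw [← map_inv, ← map_mul, ← map_mul]
      congr 2
      apply Prod.ext
      · change x * e.symm σ * x⁻¹ = e.symm (e x * σ * (e x)⁻¹)
        rw [map_mul, map_mul, map_inv, e.symm_apply_apply]
      · change y * 1 * y⁻¹ = 1
        rw [mul_one, mul_inv_cancel]
    refine ⟨QuotientGroup.mk C, ?_, ?_⟩
    · rw [e1]
      apply Subgroup.eq_of_le_of_card_ge
      · rintro _ ⟨_, ⟨σ, rfl⟩, rfl⟩
        exact ⟨_, (hact σ).symm⟩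
      · exact (Nat.card_congr (f.range.equivMapOfInjective
          (MulAut.conj (QuotientGroup.mk (C * A * C⁻¹) : PSp (2 + l) F)).toMonoidHom
          (MulEquiv.injective _)).toEquiv).le
    · rw [e1]
      by_contra hcon
      push Not at hcon
      have hex3 : (e x) ^ 3 = 1 := by rw [← map_pow, hx3, map_one]
      have hmem : e x ∈ alternatingGroup (Fin 6) := by
        rw [Equiv.Perm.mem_alternatingGroup]
        have h1 : (Equiv.Perm.sign (e x)) ^ 3 = 1 := by rw [← map_pow, hex3, map_one]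
        rcases Int.units_eq_one_or (Equiv.Perm.sign (e x)) with h | h
        · exact h
        · rw [h] at h1
          exact absurd h1 (by decide)
      have hcen : (⟨e x, hmem⟩ : alternatingGroup (Fin 6)) ∈ Subgroup.center (alternatingGroup (Fin 6)) := by
        rw [Subgroup.mem_center_iff]
        intro σ
        have h1 := hcon (f σ) ⟨σ, rfl⟩
        rw [hact σ] at h1
        have h5 := congrArg Subtype.val (hf h1)
        apply Subtype.ext
        change (σ : Equiv.Perm (Fin 6)) * e x = e x * σ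
        have h6 : e x * (σ : Equiv.Perm (Fin 6)) * (e x)⁻¹ = σ := h5
        rw [mul_inv_eq_iff_eq_mul] at h6
        exact h6.symm
      rw [Cfsg.Agent.H533.T5.center_eq_bot_of_simple hAna, Subgroup.mem_bot] at hcen
      apply hx1
      apply e.injective
      rw [map_one]
      exact congrArg Subtype.val hcen
  · exfalso
    have h1 : φ = 1 := by
      ext x
      rcases h01 x with rfl | rfl
      · rw [map_zero, map_zero]
      · rw [map_one, map_one]
    rw [h1, orderOf_one] at hφ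
    omega

end Cfsg.Agent.H479.Wf.PspCross

namespace Cfsg.Agent.H479.Wf

universe u v

/-- **The row of `PSp_2m(q)`, `3 ∤ q`.** -/
theorem wf_psp_cross {K : Type v} [Group K] [Finite K] [IsSimpleGroup K] {F : Type} [Field F] [Fintype F]
    (h3 : (3 : F) ≠ 0) {m : ℕ} (hm : 2 ≤ m) (hF : ¬ (m = 2 ∧ Fintype.card F = 2))
    (e : Nonempty (K ≃* Cfsg.PSp m F)) : Cfsg.Agent.H533.Wf.WfRow.{u, v} 3 K := by
  obtain ⟨e⟩ := e
  have hq : Fintype.card F = 2 ∨ 4 ≤ Fintype.card F := by
    have h1 : 1 < Fintype.card F := Fintype.one_lt_card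
    have h2 : Fintype.card F ≠ 3 := by
      intro h
      have h5 := Nat.cast_card_eq_zero F
      rw [h] at h5
      exact h3 (by exact_mod_cast h5)
    omega
  have key : Cfsg.Agent.H533.Wf.WfRow.{u, 0} 3 (Cfsg.PSp m F) := by
    rcases hq with hq | hq
    · obtain ⟨l, rfl⟩ := Nat.exists_eq_add_of_le hm
      exact PspCross.row_two hq (by
        by_contra h
        exact hF ⟨by omega, hq⟩)
    · obtain ⟨l, rfl⟩ := Nat.exists_eq_add_of_le (show 1 ≤ m by omega)
      exact PspCross.row_four h3 hq (by omega)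
  rintro G _ _ S C D h ⟨f⟩
  exact key G S C D h ⟨f.trans e⟩

end Cfsg.Agent.H479.Wf
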